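import Cfsg.Agent.Codegree.Kernel
import Cfsg.Agent.Characters.Integrality

/-!
# Sums of characters over normal subgroups and degree congruences
-/

set_option autoImplicit false
set_option linter.style.haveILetI false

namespace CfsgLib.Codegree

open Representation

universe u v

variable {G : Type u} [Group G]

/-- The kernel of a character contains `K`. -/
def KerContains (χ : Cfsg.IrrCharacter G) (K : Subgroup G) : Prop :=
  ∀ x ∈ K, (χ : G → ℂ) x = (χ : G → ℂ) 1

variable [Fintype G]

/-- A character whose kernel does not contain a normal subgroup sums to zero on each coset. -/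
theorem sum_coset_eq_zero (χ : Cfsg.IrrCharacter G) (K : Subgroup G) [K.Normal] [Fintype K]
    (h : ¬ KerContains χ K) (g : G) : ∑ k : K, (χ : G → ℂ) (g * k) = 0 := by
  classical
  obtain ⟨n, ρ, hρ, hρc⟩ := χ.2
  set T : Module.End ℂ (Fin n → ℂ) := ∑ k : K, ρ (k : G) with hT
  have hcomm : ∀ (a : G) (x : Fin n → ℂ), T (ρ a x) = ρ a (T x) := by
    intro a x
    simp only [hT, LinearMap.sum_apply, map_sum, ← Module.End.mul_apply, ← map_mul]
    refine Fintype.sum_bijective
      (fun k : K => (⟨a⁻¹ * k * a, by simpa using ‹K.Normal›.conj_mem _ k.2 a⁻¹⟩ : K)) ?_ _ _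
      fun k => by congr 2; simp [mul_assoc]
    refine (Fintype.bijective_iff_injective_and_card _).2 ⟨fun k l hkl => ?_, rfl⟩
    exact Subtype.ext (by simpa using congrArg (fun y : K => (y : G)) hkl)
  obtain ⟨c, hc⟩ := CfsgLib.Characters.schur_scalar ρ _ hcomm
  have hc0 : c = 0 := by
    by_contra hc0
    refine h fun x hx => ?_
    have hfix : ρ x * T = T := by
      rw [hT, Finset.mul_sum]
      refine Fintype.sum_bijective (fun k : K => (⟨x, hx⟩ : K) * k) (Group.mulLeft_bijective _) _ _
        fun k => by rw [← map_mul]; rfl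
    rw [hc] at hfix
    have hx1 : ρ x = 1 := by
      refine LinearMap.ext fun v => ?_
      have := LinearMap.congr_fun hfix v
      simp only [Module.End.mul_apply, LinearMap.smul_apply, LinearMap.id_apply, map_smul] at this
      simpa using smul_right_injective (Fin n → ℂ) hc0 this
    rw [← hρc]
    exact (char_eq_one_iff ρ x).2 hx1
  have : ∑ k : K, (χ : G → ℂ) (g * k) = LinearMap.trace ℂ (Fin n → ℂ) (ρ g * T) := by
    rw [hT, Finset.mul_sum, map_sum, ← hρc]
    exact Finset.sum_congr rfl fun k _ => by rw [← map_mul]; rfl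
  rw [this, hc, hc0]
  simp

/-- The squares of the degrees of the characters with kernel containing `K` sum to the index. -/
theorem sum_degree_sq_kerContains (K : Subgroup G) [K.Normal]
    [DecidablePred (fun χ : Cfsg.IrrCharacter G => KerContains χ K)] :
    ∑ χ ∈ Finset.univ.filter (fun χ : Cfsg.IrrCharacter G => KerContains χ K),
      (χ : G → ℂ) 1 ^ 2 = (K.index : ℂ) := by
  classical
  letI := Fintype.ofFinite K
  have h1 : ∀ χ : Cfsg.IrrCharacter G, ∑ k : K, (χ : G → ℂ) 1 * (χ : G → ℂ) (k : G) =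
      if KerContains χ K then (Nat.card K : ℂ) * (χ : G → ℂ) 1 ^ 2 else 0 := by
    intro χ
    split_ifs with h
    · rw [Finset.sum_congr rfl (g := fun _ => (χ : G → ℂ) 1 ^ 2)
        (fun k _ => by rw [h k k.2, sq]), Finset.sum_const, Finset.card_univ, nsmul_eq_mul,
        Nat.card_eq_fintype_card]
    · rw [← Finset.mul_sum]
      have := sum_coset_eq_zero χ K h 1
      simp only [one_mul] at this
      rw [this, mul_zero]
  have h2 : ∑ χ : Cfsg.IrrCharacter G, ∑ k : K, (χ : G → ℂ) 1 * (χ : G → ℂ) (k : G) =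
      (Nat.card G : ℂ) := by
    rw [Finset.sum_comm]
    simp only [CfsgLib.Characters.sum_degree_mul]
    rw [Finset.sum_eq_single (1 : K)]
    · simp
    · intro k _ hk
      rw [if_neg fun h : (k : G) = 1 => hk (Subtype.ext h)]
    · simp
  simp only [h1] at h2
  rw [← Finset.sum_filter, ← Finset.mul_sum, ← Subgroup.card_mul_index K, Nat.cast_mul] at h2
  exact mul_left_cancel₀ (Nat.cast_ne_zero.2 Nat.card_pos.ne') h2

omit [Fintype G] in
theorem exists_degree (χ : Cfsg.IrrCharacter G) :
    0 < Cfsg.charDegree (χ : G → ℂ) ∧ (χ : G → ℂ) 1 = (Cfsg.charDegree (χ : G → ℂ) : ℂ) := by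
  obtain ⟨d, hd0, hd⟩ := CfsgLib.Characters.exists_degree_pos χ.2
  have : Cfsg.charDegree (χ : G → ℂ) = d := by simp [Cfsg.charDegree, hd]
  rw [this]
  exact ⟨hd0, hd⟩

/-- Sum of squares of degrees over the characters with kernel containing `K`, in `ℕ`. -/
theorem sum_charDegree_sq_kerContains (K : Subgroup G) [K.Normal]
    [DecidablePred (fun χ : Cfsg.IrrCharacter G => KerContains χ K)] :
    ∑ χ ∈ Finset.univ.filter (fun χ : Cfsg.IrrCharacter G => KerContains χ K),
      Cfsg.charDegree (χ : G → ℂ) ^ 2 = K.index := by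
  have h := sum_degree_sq_kerContains K
  rw [Finset.sum_congr rfl (g := fun χ : Cfsg.IrrCharacter G =>
    ((Cfsg.charDegree (χ : G → ℂ) ^ 2 : ℕ) : ℂ))
    (fun χ _ => by rw [(exists_degree χ).2]; push_cast; rfl), ← Nat.cast_sum] at h
  exact_mod_cast h

theorem sum_charDegree_sq :
    ∑ χ : Cfsg.IrrCharacter G, Cfsg.charDegree (χ : G → ℂ) ^ 2 = Nat.card G := by
  have h := CfsgLib.Characters.sum_degree_sq (G := G)
  rw [Finset.sum_congr rfl (g := fun χ : Cfsg.IrrCharacter G =>
    ((Cfsg.charDegree (χ : G → ℂ) ^ 2 : ℕ) : ℂ))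
    (fun χ _ => by rw [(exists_degree χ).2]; push_cast; rfl), ← Nat.cast_sum] at h
  exact_mod_cast h

/-- The kernel of a character as a normal subgroup, together with its divisibility property. -/
theorem exists_kernel (χ : Cfsg.IrrCharacter G) :
    ∃ K : Subgroup G, K.Normal ∧ (∀ x, x ∈ K ↔ (χ : G → ℂ) x = (χ : G → ℂ) 1) ∧
      Cfsg.charDegree (χ : G → ℂ) ∣ K.index ∧
      Nat.card G / (Nat.card {g : G // (χ : G → ℂ) g = (χ : G → ℂ) 1} *
        Cfsg.charDegree (χ : G → ℂ)) = K.index / Cfsg.charDegree (χ : G → ℂ) := by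
  obtain ⟨n, ρ, hρ, hρc⟩ := χ.2
  haveI := kerRep_irreducible ρ
  letI := Fintype.ofFinite (G ⧸ MonoidHom.ker ρ)
  refine ⟨MonoidHom.ker ρ, MonoidHom.normal_ker _, ?_, ?_, ?_⟩
  · intro x
    rw [← hρc]
    exact (char_eq_one_iff ρ x).symm
  · rw [← hρc, charDegree_character]
    exact CfsgLib.Characters.finrank_dvd_card (kerRep ρ)
  · rw [← hρc, codeg_eq, charDegree_character]
    rfl

/-- For a prime divisor of the order some codegree is divisible by it. -/
theorem exists_dvd_index_div {p : ℕ} (hp : p.Prime) (hdvd : p ∣ Nat.card G) :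
    ∃ χ : Cfsg.IrrCharacter G, p ∣ Nat.card G / (Nat.card {g : G // (χ : G → ℂ) g =
      (χ : G → ℂ) 1} * Cfsg.charDegree (χ : G → ℂ)) := by
  classical
  by_contra hno
  push Not at hno
  choose K hKn hKmem hKdvd hKcod using fun χ : Cfsg.IrrCharacter G => exists_kernel χ
  set A := Finset.univ.filter (fun χ : Cfsg.IrrCharacter G => ¬ p ∣ Cfsg.charDegree (χ : G → ℂ))
  set L : Subgroup G := ⨅ χ ∈ A, K χ with hL
  haveI hLn : L.Normal := by
    refine ⟨fun x hx g => ?_⟩
    simp only [hL, Subgroup.mem_iInf] at hx ⊢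
    exact fun χ hχ => (hKn χ).conj_mem x (hx χ hχ) g
  have hKp : ∀ χ ∈ A, ¬ p ∣ (K χ).index := by
    intro χ hχ hdiv
    have hd := hKdvd χ
    rw [← Nat.mul_div_cancel' hd] at hdiv
    rcases hp.dvd_mul.1 hdiv with h | h
    · exact (Finset.mem_filter.1 hχ).2 h
    · exact hno χ (by rw [hKcod]; exact h)
  have hLp : ∀ s : Finset (Cfsg.IrrCharacter G), (∀ χ ∈ s, χ ∈ A) →
      ¬ p ∣ (⨅ χ ∈ s, K χ).index := by
    intro s
    induction s using Finset.induction_on with
    | empty => intro _; simp [hp.ne_one]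
    | @insert a s has ih =>
      intro hs
      rw [Finset.iInf_insert]
      set B := ⨅ χ ∈ s, K χ with hB
      intro hdiv
      haveI := hKn a
      rw [inf_comm, ← Subgroup.relIndex_mul_index (inf_le_left (a := B) (b := K a)),
        Subgroup.inf_relIndex_left] at hdiv
      rcases hp.dvd_mul.1 hdiv with h | h
      · exact hKp a (hs a (Finset.mem_insert_self _ _))
          (h.trans (Subgroup.relIndex_dvd_index_of_normal _ _))
      · exact ih (fun χ hχ => hs χ (Finset.mem_insert_of_mem hχ)) h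
  have hLp' : ¬ p ∣ L.index := hLp A fun _ h => h
  have heq : Finset.univ.filter (fun χ : Cfsg.IrrCharacter G => KerContains χ L) = A := by
    ext χ
    constructor
    · intro h
      refine Finset.mem_filter.2 ⟨Finset.mem_univ _, fun hpd => hLp' ?_⟩
      have hle : L ≤ K χ := fun x hx => (hKmem χ x).2 ((Finset.mem_filter.1 h).2 x hx)
      exact hpd.trans ((hKdvd χ).trans (Subgroup.index_dvd_of_le hle))
    · intro hχ
      refine Finset.mem_filter.2 ⟨Finset.mem_univ _, fun x hx => (hKmem χ x).1 ?_⟩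
      simp only [hL, Subgroup.mem_iInf] at hx
      exact hx χ hχ
  refine hLp' ?_
  rw [← sum_charDegree_sq_kerContains L, heq]
  have htot := sum_charDegree_sq (G := G)
  rw [← Finset.sum_filter_add_sum_filter_not Finset.univ
    (fun χ : Cfsg.IrrCharacter G => ¬ p ∣ Cfsg.charDegree (χ : G → ℂ))] at htot
  refine (Nat.dvd_add_left ?_).1 (htot ▸ hdvd)
  refine Finset.dvd_sum fun χ hχ => ?_
  exact dvd_pow (not_not.1 (Finset.mem_filter.1 hχ).2) two_ne_zero

end CfsgLib.Codegree
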