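import Cfsg.Agent.Characters.Induction
import Cfsg.Agent.Characters.Integrality
import Cfsg.Agent.Blocks.Idempotent
import Cfsg.Agent.BlocksCharsC.Congruence
import Cfsg.Agent.CharactersDeep.Clifford
import Mathlib.GroupTheory.PGroup

/-!
# Characters of a block over a character of a normal subgroup

For a union `A` of blocks, a normal subgroup `N`, a character `θ` of `N` and a `p`-element outside
`N`, the sum of `[χ_N, θ] χ(1)` over `A` is divisible by `p`.
-/

set_option autoImplicit false
set_option linter.style.haveILetI false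

namespace CfsgLib.BlockOver

open Cfsg
open scoped ComplexConjugate

universe u

variable {G : Type u} [Group G] [Fintype G]

/-- Generalised orthogonality. -/
theorem sum_conj_mul_apply (χ ψ : IrrCharacter G) (x : G) [Decidable (χ = ψ)] :
    ∑ g : G, conj ((χ : G → ℂ) g) * (ψ : G → ℂ) (x * g) =
      if χ = ψ then (Nat.card G : ℂ) / (ψ : G → ℂ) 1 * (ψ : G → ℂ) x else 0 := by
  classical
  obtain ⟨n, ρ, hρ, hρc⟩ := ψ.2
  have hcl : Cfsg.IsClassFunction G (χ : G → ℂ) := CfsgLib.Characters.isClassFunction_of_isIrr χ.2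
  obtain ⟨c, hc⟩ := CfsgLib.Characters.schur_scalar ρ
    (CfsgLib.Characters.avgOp (χ : G → ℂ) ρ) (CfsgLib.Characters.avgOp_comm hcl ρ)
  have hd : (ψ : G → ℂ) 1 = (Module.finrank ℂ (Fin n → ℂ) : ℂ) := by
    rw [← hρc, Representation.char_one]
  have h1 : c * (ψ : G → ℂ) 1 = (Nat.card G : ℂ) * if χ = ψ then 1 else 0 := by
    rw [hd, ← CfsgLib.Characters.trace_smul_id (V := Fin n → ℂ), ← hc,
      CfsgLib.Characters.trace_avgOp, hρc, CfsgLib.Characters.classInner_irr]
  have h2 : ∑ g : G, conj ((χ : G → ℂ) g) * (ψ : G → ℂ) (x * g) = c * (ψ : G → ℂ) x := by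
    have : LinearMap.trace ℂ (Fin n → ℂ) (ρ x * CfsgLib.Characters.avgOp (χ : G → ℂ) ρ) =
        c * (ψ : G → ℂ) x := by
      rw [hc, ← hρc, mul_smul_comm, map_smul]
      rfl
    rw [← this, CfsgLib.Characters.avgOp, Finset.mul_sum, map_sum]
    refine Fintype.sum_equiv (Equiv.inv G) _ _ fun a => ?_
    rw [mul_smul_comm, map_smul, ← map_mul, Equiv.inv_apply, inv_inv, ← hρc,
      ← CfsgLib.Characters.character_inv (CfsgLib.Characters.isCharacter_of_isIrr χ.2)]
    rfl
  rw [h2, eq_div_iff (CfsgLib.Characters.irr_one_ne_zero ψ.2) |>.2 h1]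
  split_ifs <;> ring

/-- Convolving the idempotent of a set of characters with a class function. -/
theorem sum_blockCoeff_mul (A : Set (IrrCharacter G)) [DecidablePred (· ∈ A)] {F : G → ℂ}
    (hF : Cfsg.IsClassFunction G F) (x : G) :
    ∑ g : G, Cfsg.blockCoeff A g * F (x * g) =
      ∑ χ : IrrCharacter G, if χ ∈ A then Cfsg.classInner F (χ : G → ℂ) * (χ : G → ℂ) x else 0 := by
  classical
  have hN : (Nat.card G : ℂ) ≠ 0 := Nat.cast_ne_zero.2 Nat.card_pos.ne'
  have key : ∀ g : G, Cfsg.blockCoeff A g * F (x * g) = ∑ φ : IrrCharacter G, ∑ ψ : IrrCharacter G,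
      if φ ∈ A then (Nat.card G : ℂ)⁻¹ * (φ : G → ℂ) 1 * Cfsg.classInner F (ψ : G → ℂ) *
        (conj ((φ : G → ℂ) g) * (ψ : G → ℂ) (x * g)) else 0 := by
    intro g
    have hFx := congrFun (CfsgLib.Characters.classFunction_expansion hF) (x * g)
    simp only [Finset.sum_apply, Pi.smul_apply, smul_eq_mul] at hFx
    rw [CfsgLib.Blocks.blockCoeff_eq_sum, hFx, mul_assoc, Finset.sum_mul, Finset.mul_sum]
    refine Finset.sum_congr rfl fun φ _ => ?_
    rw [← mul_assoc, Finset.mul_sum]
    refine Finset.sum_congr rfl fun ψ _ => ?_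
    split_ifs <;> ring
  rw [Finset.sum_congr rfl fun g _ => key g, Finset.sum_comm]
  refine Finset.sum_congr rfl fun φ _ => ?_
  rw [Finset.sum_comm]
  split_ifs with hφ
  · simp only [← Finset.mul_sum, sum_conj_mul_apply]
    rw [Finset.sum_eq_single φ (fun ψ _ hne => by rw [if_neg hne.symm, mul_zero]) (by simp),
      if_pos rfl]
    have h0 := CfsgLib.Characters.irr_one_ne_zero φ.2
    field_simp
  · simp

/-- Induction from a normal subgroup as a sum over coset representatives. -/
theorem indFun_eq_sum_quotient (N : Subgroup G) [N.Normal] [Fintype (G ⧸ N)] {θ : N → ℂ}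
    (hθ : Cfsg.IsClassFunction N θ) (g : G) :
    Cfsg.indFun N θ g = ∑ q : G ⧸ N, Cfsg.extendByZero N θ (q.out⁻¹ * g * q.out) := by
  classical
  letI := Fintype.ofFinite N
  have hconj : ∀ (y : G) (k : N), Cfsg.extendByZero N θ ((k : G)⁻¹ * y * k) =
      Cfsg.extendByZero N θ y := by
    intro y k
    by_cases hy : y ∈ N
    · rw [CfsgLib.Characters.extendByZero_of_mem N θ hy,
        CfsgLib.Characters.extendByZero_of_mem N θ
          (N.mul_mem (N.mul_mem (N.inv_mem k.2) hy) k.2)]
      refine Eq.trans (congrArg θ (Subtype.ext ?_)) (hθ ⟨y, hy⟩ k⁻¹)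
      simp
    · rw [CfsgLib.Characters.extendByZero_of_not_mem N θ hy,
        CfsgLib.Characters.extendByZero_of_not_mem N θ]
      intro h
      refine hy ?_
      have := N.mul_mem (N.mul_mem k.2 h) (N.inv_mem k.2)
      simpa [mul_assoc] using this
  rw [Cfsg.indFun, ← Equiv.sum_comp (Subgroup.groupEquivQuotientProdSubgroup (s := N)).symm,
    Fintype.sum_prod_type, Finset.mul_sum]
  refine Finset.sum_congr rfl fun q _ => ?_
  have hterm : ∀ k : N, Cfsg.extendByZero N θ
      (((Subgroup.groupEquivQuotientProdSubgroup (s := N)).symm (q, k))⁻¹ * g *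
        (Subgroup.groupEquivQuotientProdSubgroup (s := N)).symm (q, k)) =
      Cfsg.extendByZero N θ (q.out⁻¹ * g * q.out) := by
    intro k
    generalize hz : (Subgroup.groupEquivQuotientProdSubgroup (s := N)).symm (q, k) = z
    have hq : (QuotientGroup.mk z : G ⧸ N) = q :=
      (congrArg Prod.fst ((Equiv.symm_apply_eq _).1 hz)).symm
    set k' : N := ⟨q.out⁻¹ * z, QuotientGroup.eq.1 (by rw [hq, QuotientGroup.out_eq'])⟩ with hk'
    rw [← hconj (q.out⁻¹ * g * q.out) k']
    congr 1
    simp only [hk']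
    group
  rw [Finset.sum_congr rfl fun k _ => hterm k, Finset.sum_const, Finset.card_univ, nsmul_eq_mul,
    ← mul_assoc, Nat.card_eq_fintype_card, inv_mul_cancel₀ (Nat.cast_ne_zero.2 Fintype.card_ne_zero),
    one_mul]

variable {p : ℕ} {M : Ideal AlgInt}

/-- A sum of local integers invariant under a fixed point free action of a `p`-group lies in
the local ideal. -/
theorem memLocalIdeal_sum_of_fixedPointFree [hMp : M.IsPrime] (hM : Cfsg.IsPModular p M)
    {C : Type*} [Group C] (hC : IsPGroup p C) {ι : Type*} [Fintype ι] [MulAction C ι]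
    (hfree : ∀ i : ι, ∃ c : C, c • i ≠ i) (f : ι → ℂ)
    (hf : ∀ (c : C) (i : ι), f (c • i) = f i) (hR : ∀ i, Cfsg.MemLocalRing M (f i)) :
    Cfsg.MemLocalIdeal M (∑ i, f i) := by
  classical
  haveI : Fact p.Prime := ⟨hM.1⟩
  rw [← Finset.sum_fiberwise_of_maps_to (s := Finset.univ) (t := Finset.univ.image f) (g := f)
    (fun i hi => Finset.mem_image_of_mem f hi)]
  refine CfsgLib.Blocks.memLocalIdeal_sum _ fun v hv => ?_
  obtain ⟨i, -, rfl⟩ := Finset.mem_image.1 hv
  rw [Finset.sum_congr rfl (g := fun _ => f i) (fun j hj => (Finset.mem_filter.1 hj).2),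
    Finset.sum_const, nsmul_eq_mul]
  refine CfsgLib.Blocks.memLocalIdeal_mul_right ?_ (hR i)
  rw [CfsgLib.Blocks.memLocalIdeal_natCast_iff hM]
  letI : MulAction C {j : ι // f j = f i} :=
    { smul := fun c j => ⟨c • j.1, by rw [hf]; exact j.2⟩
      one_smul := fun j => Subtype.ext (one_smul C j.1)
      mul_smul := fun a b j => Subtype.ext (mul_smul a b j.1) }
  have hcard := hC.card_modEq_card_fixedPoints {j : ι // f j = f i}
  have hempty : Nat.card (MulAction.fixedPoints C {j : ι // f j = f i}) = 0 := by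
    rw [Nat.card_eq_zero]
    refine Or.inl ⟨fun j => ?_⟩
    obtain ⟨c, hc⟩ := hfree j.1.1
    exact hc (congrArg Subtype.val (j.2 c))
  rw [hempty, Nat.card_eq_fintype_card, Fintype.card_subtype] at hcard
  exact Nat.modEq_zero_iff_dvd.1 hcard

/-- The congruence for the characters of a block union over a character of a normal subgroup. -/
theorem memLocalIdeal_sum_inner_mul [hMp : M.IsPrime] (hM : Cfsg.IsPModular p M)
    {A : Set (IrrCharacter G)} [DecidablePred (· ∈ A)] (hA : CfsgLib.Blocks.IsBlockUnion M A)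
    (N : Subgroup G) [N.Normal] [Fintype N] {θ : N → ℂ} (hθ : Cfsg.IsCharacter N θ)
    {x : G} {j : ℕ} (hx : orderOf x = p ^ j) (hxN : x ∉ N) :
    Cfsg.MemLocalIdeal M (∑ χ : IrrCharacter G,
      if χ ∈ A then Cfsg.classInner θ (fun n : N => (χ : G → ℂ) n) * (χ : G → ℂ) 1 else 0) := by
  classical
  haveI : Fintype (G ⧸ N) := Fintype.ofFinite _
  have hθc := CfsgLib.Characters.isClassFunction_of_isCharacter hθ
  set F : G → ℂ := fun t => ∑ g : G,
    Cfsg.blockCoeff A g * Cfsg.extendByZero N θ (t⁻¹ * (x * g) * t) with hFdef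
  have hS : ∑ g : G, Cfsg.blockCoeff A g * Cfsg.indFun N θ (x * g) = ∑ q : G ⧸ N, F q.out := by
    simp only [indFun_eq_sum_quotient N hθc, Finset.mul_sum, hFdef]
    exact Finset.sum_comm
  have hext : ∀ y, Cfsg.MemLocalRing M (Cfsg.extendByZero N θ y) := by
    intro y
    by_cases hy : y ∈ N
    · rw [CfsgLib.Characters.extendByZero_of_mem N θ hy]
      exact CfsgLib.Blocks.memLocalRing_of_isIntegral
        (CfsgLib.Characters.character_isIntegral hθ _)
    · rw [CfsgLib.Characters.extendByZero_of_not_mem N θ hy]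
      exact (CfsgLib.Blocks.localRing M).zero_mem
  have hright : ∀ (t : G) (k : N), F (t * k) = F t := by
    intro t k
    simp only [hFdef]
    refine Finset.sum_congr rfl fun g _ => ?_
    congr 1
    rw [show (t * (k : G))⁻¹ * (x * g) * (t * k) = (k : G)⁻¹ * (t⁻¹ * (x * g) * t) * k by group]
    by_cases hy : t⁻¹ * (x * g) * t ∈ N
    · rw [CfsgLib.Characters.extendByZero_of_mem N θ hy,
        CfsgLib.Characters.extendByZero_of_mem N θ
          (N.mul_mem (N.mul_mem (N.inv_mem k.2) hy) k.2)]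
      refine Eq.trans (congrArg θ (Subtype.ext ?_)) (hθc ⟨_, hy⟩ k⁻¹)
      simp
    · rw [CfsgLib.Characters.extendByZero_of_not_mem N θ hy,
        CfsgLib.Characters.extendByZero_of_not_mem N θ]
      intro h
      refine hy ?_
      have := N.mul_mem (N.mul_mem k.2 h) (N.inv_mem k.2)
      simpa [mul_assoc] using this
  have hleft : ∀ t : G, F (x * t) = F t := by
    intro t
    simp only [hFdef]
    refine Fintype.sum_bijective (fun g => x⁻¹ * g * x)
      ((Equiv.mulLeft x⁻¹).trans (Equiv.mulRight x)).bijective _ _ fun g => ?_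
    rw [show Cfsg.blockCoeff A (x⁻¹ * g * x) = Cfsg.blockCoeff A g by
      simpa using CfsgLib.Blocks.blockCoeff_conj A g x⁻¹]
    congr 2
    group
  have hout : ∀ t : G, F (QuotientGroup.mk t : G ⧸ N).out = F t := by
    intro t
    obtain ⟨k, hk⟩ := QuotientGroup.mk_out_eq_mul N t
    rw [hk, hright]
  have hinv : ∀ (c : Subgroup.zpowers x) (q : G ⧸ N), F (c • q).out = F q.out := by
    intro c q
    refine QuotientGroup.induction_on q fun t => ?_
    have hc : (c • (QuotientGroup.mk t : G ⧸ N)) = QuotientGroup.mk ((c : G) * t) := rfl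
    rw [hc, hout, hout]
    obtain ⟨n, hn⟩ := mem_powers_iff_mem_zpowers.2 c.2
    simp only at hn
    rw [← hn]
    clear hc hn
    induction n with
    | zero => simp
    | succ n ih => rw [pow_succ', mul_assoc, hleft, ih]
  have hP : IsPGroup p (Subgroup.zpowers x) :=
    IsPGroup.of_card (n := j) (by rw [Nat.card_zpowers, hx])
  have hfree : ∀ q : G ⧸ N, ∃ c : Subgroup.zpowers x, c • q ≠ q := by
    intro q
    refine ⟨⟨x, Subgroup.mem_zpowers x⟩, ?_⟩
    refine QuotientGroup.induction_on q fun t => ?_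
    intro h
    have h' : (QuotientGroup.mk (x * t) : G ⧸ N) = QuotientGroup.mk t := h
    rw [QuotientGroup.mk_mul] at h'
    exact hxN ((QuotientGroup.eq_one_iff x).1 (mul_eq_right.1 h'))
  have hR : ∀ q : G ⧸ N, Cfsg.MemLocalRing M (F q.out) := fun q =>
    (CfsgLib.Blocks.localRing M).sum_mem fun g _ =>
      (CfsgLib.Blocks.localRing M).mul_mem (CfsgLib.Blocks.memLocalRing_blockCoeff hA g) (hext _)
  have hmain := memLocalIdeal_sum_of_fixedPointFree hM hP hfree (fun q => F q.out) hinv hR
  rw [← hS, sum_blockCoeff_mul A (CfsgLib.Characters.isClassFunction_indFun N θ) x] at hmain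
  -- replace the value at `x` by the degree
  have hdiff : Cfsg.MemLocalIdeal M (∑ χ : IrrCharacter G, if χ ∈ A then
      Cfsg.classInner θ (fun n : N => (χ : G → ℂ) n) * ((χ : G → ℂ) x - (χ : G → ℂ) 1) else 0) := by
    refine CfsgLib.Blocks.memLocalIdeal_sum _ fun χ _ => ?_
    split_ifs
    · obtain ⟨a, ha, haeq⟩ := CfsgLib.BlocksCharsC.sub_degree_mem hM
        (CfsgLib.Characters.isCharacter_of_isIrr χ.2) hx
      obtain ⟨m, hm⟩ := CfsgLib.Characters.classInner_characters hθ
        (CfsgLib.Characters.isCharacter_restrict N (CfsgLib.Characters.isCharacter_of_isIrr χ.2))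
      rw [hm, ← haeq]
      exact CfsgLib.Blocks.memLocalIdeal_mul_left (CfsgLib.Blocks.memLocalRing_natCast m)
        ((CfsgLib.Blocks.memLocalIdeal_coe_iff a).2 ha)
    · exact CfsgLib.Blocks.memLocalIdeal_zero
  have h := CfsgLib.Blocks.memLocalIdeal_sub hmain hdiff
  rw [← Finset.sum_sub_distrib] at h
  convert h using 1
  refine Finset.sum_congr rfl fun χ _ => ?_
  rw [CfsgLib.Characters.classInner_indFun N θ (CfsgLib.Characters.isClassFunction_of_isIrr χ.2)]
  split_ifs <;> ring

end CfsgLib.BlockOver
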