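import Cfsg.Prelude.Def_Solvable
import Mathlib.GroupTheory.Complement

/-!
# Frobenius groups from a fixed point free complement
-/

set_option autoImplicit false

namespace CfsgLib.Codegree

open Pointwise

variable {G : Type*} [Group G] [Finite G]

/-- A complement acting without fixed points on a normal subgroup is a Frobenius complement, with
that subgroup as Frobenius kernel. -/
theorem frobenius_of_free {P B : Subgroup G} (hPn : P.Normal) (hPB : P.IsComplement' B)
    (hB1 : Nat.card B ≠ 1) (hP1 : Nat.card P ≠ 1)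
    (hfree : ∀ b ∈ B, ∀ x ∈ P, Commute b x → b = 1 ∨ x = 1) :
    Cfsg.IsFrobeniusComplement B ∧ Cfsg.frobeniusKernel B = (P : Set G) := by
  have hdisj : P ⊓ B = ⊥ := hPB.disjoint.eq_bot
  have hmem : ∀ g : G, ∃ y ∈ P, ∃ b ∈ B, y * b = g := by
    intro g
    obtain ⟨⟨y, b⟩, h⟩ := hPB.2 g
    exact ⟨y, y.2, b, b.2, h⟩
  refine ⟨⟨fun h => hB1 (by rw [h]; exact Subgroup.card_bot), fun h => ?_, ?_⟩, ?_⟩
  · rw [h, inf_top_eq] at hdisj
    exact hP1 (by rw [hdisj]; exact Subgroup.card_bot)
  · intro g hg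
    obtain ⟨y, hy, c, hc, rfl⟩ := hmem g
    have hy1 : y ≠ 1 := fun h => hg (by simp [h, hc])
    rw [eq_bot_iff]
    intro h hh
    obtain ⟨hhB, hhc⟩ := Subgroup.mem_inf.1 hh
    rw [Subgroup.mem_pointwise_smul_iff_inv_smul_mem] at hhc
    simp only [MulAut.smul_def, MulAut.conj_inv_apply] at hhc
    -- the conjugate of `h` by `y` lies in `B`
    have h' : y⁻¹ * h * y ∈ B := by
      have := B.mul_mem (B.mul_mem hc hhc) (B.inv_mem hc)
      simpa [mul_assoc] using this
    have hP : h⁻¹ * (y⁻¹ * h * y) ∈ P := by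
      have := P.mul_mem (hPn.conj_mem _ (P.inv_mem hy) h⁻¹) hy
      simpa [mul_assoc] using this
    have hmem2 : h⁻¹ * (y⁻¹ * h * y) ∈ P ⊓ B :=
      ⟨hP, B.mul_mem (B.inv_mem hhB) h'⟩
    rw [hdisj, Subgroup.mem_bot, inv_mul_eq_one] at hmem2
    have hcomm : Commute h y := by
      show h * y = y * h
      conv_rhs => rw [hmem2]
      group
    exact Subgroup.mem_bot.2 ((hfree h hhB y hy hcomm).resolve_right hy1)
  · ext x
    constructor
    · intro hx
      by_contra hxP
      obtain ⟨y, hy, b, hb, rfl⟩ := hmem x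
      have hb1 : b ≠ 1 := fun h => hxP (by simp [h, hy])
      let f : P → P := fun z => ⟨(z : G) * (b * (z : G)⁻¹ * b⁻¹),
        P.mul_mem z.2 (hPn.conj_mem _ (P.inv_mem z.2) b)⟩
      have hf : Function.Injective f := by
        intro z w hzw
        have h1 : (z : G) * (b * (z : G)⁻¹ * b⁻¹) = (w : G) * (b * (w : G)⁻¹ * b⁻¹) :=
          congrArg Subtype.val hzw
        have hcomm : Commute b ((w : G)⁻¹ * z) := by
          show b * ((w : G)⁻¹ * z) = (w : G)⁻¹ * z * b
          calc b * ((w : G)⁻¹ * z)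
              = (w : G)⁻¹ * ((w : G) * (b * (w : G)⁻¹ * b⁻¹)) * (b * z) := by group
            _ = (w : G)⁻¹ * z * b := by rw [← h1]; group
        have := (hfree b hb _ (P.mul_mem (P.inv_mem w.2) z.2) hcomm).resolve_left hb1
        exact Subtype.ext (inv_mul_eq_one.1 this).symm
      obtain ⟨z, hz⟩ := (Finite.surjective_of_injective hf) ⟨y, hy⟩
      have hz' : (z : G) * b * (z : G)⁻¹ = y * b := by
        have h1 : (z : G) * (b * (z : G)⁻¹ * b⁻¹) = y := congrArg Subtype.val hz
        rw [← h1]; group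
      rcases hx with hx | hx
      · exact hxP (by rw [hx]; exact P.one_mem)
      · refine hx (z : G) ?_
        rw [Subgroup.mem_pointwise_smul_iff_inv_smul_mem]
        simp only [MulAut.smul_def, MulAut.conj_inv_apply]
        rw [← hz']
        simpa [mul_assoc] using hb
    · intro hx
      by_cases hx1 : x = 1
      · exact Or.inl hx1
      refine Or.inr fun g hg => hx1 ?_
      rw [Subgroup.mem_pointwise_smul_iff_inv_smul_mem] at hg
      simp only [MulAut.smul_def, MulAut.conj_inv_apply] at hg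
      have h1 : g⁻¹ * x * g ∈ P ⊓ B := ⟨by simpa using hPn.conj_mem _ hx g⁻¹, hg⟩
      rw [hdisj, Subgroup.mem_bot] at h1
      calc x = g * (g⁻¹ * x * g) * g⁻¹ := by group
        _ = 1 := by rw [h1]; group

end CfsgLib.Codegree
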