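import Cfsg.Agent.Codegree.Sums
import Cfsg.Agent.Characters.Induction

/-!
# Characters induced from Sylow subgroups and prime power codegree
-/

set_option autoImplicit false
set_option linter.style.haveILetI false

namespace CfsgLib.Codegree

universe u

variable {G : Type u} [Group G]

/-- If a sum of two characters is irreducible, one of them has degree zero. -/
theorem eq_zero_or_eq_zero_of_add_irr [Fintype G] {A B : G → ℂ} (hA : Cfsg.IsCharacter G A)
    (hB : Cfsg.IsCharacter G B) (h : Cfsg.IsIrrCharacter G (A + B)) : A 1 = 0 ∨ B 1 = 0 := by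
  classical
  obtain ⟨m, hm⟩ := CfsgLib.Characters.exists_nat_coeff hA
  obtain ⟨n, hn⟩ := CfsgLib.Characters.exists_nat_coeff hB
  have key : ∀ ψ : Cfsg.IrrCharacter G,
      ((m ψ + n ψ : ℕ) : ℂ) = if (⟨A + B, h⟩ : Cfsg.IrrCharacter G) = ψ then 1 else 0 := by
    intro ψ
    have h1 := congrArg (fun f => Cfsg.classInner f (ψ : G → ℂ)) hm
    have h2 := congrArg (fun f => Cfsg.classInner f (ψ : G → ℂ)) hn
    simp only [CfsgLib.Characters.classInner_irr_coeff] at h1 h2
    rw [← CfsgLib.Characters.classInner_irr]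
    rw [CfsgLib.Characters.classInner_add_left, h1, h2, Nat.cast_add]
  have h0 : ∀ ψ, (⟨A + B, h⟩ : Cfsg.IrrCharacter G) ≠ ψ → m ψ = 0 ∧ n ψ = 0 := by
    intro ψ hψ
    have h1 := key ψ
    rw [if_neg hψ, Nat.cast_eq_zero] at h1
    omega
  have h1 := key ⟨A + B, h⟩
  rw [if_pos rfl, Nat.cast_eq_one] at h1
  rcases (by omega : m ⟨A + B, h⟩ = 0 ∨ n ⟨A + B, h⟩ = 0) with h2 | h2
  · left
    rw [hm, Finset.sum_apply]
    refine Finset.sum_eq_zero fun ψ _ => ?_
    by_cases hψ : (⟨A + B, h⟩ : Cfsg.IrrCharacter G) = ψ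
    · simp [← hψ, h2]
    · simp [(h0 ψ hψ).1]
  · right
    rw [hn, Finset.sum_apply]
    refine Finset.sum_eq_zero fun ψ _ => ?_
    by_cases hψ : (⟨A + B, h⟩ : Cfsg.IrrCharacter G) = ψ
    · simp [← hψ, h2]
    · simp [(h0 ψ hψ).2]

theorem charDegree_eq_of_apply_one (χ : G → ℂ) (n : ℕ) (h : χ 1 = n) :
    Cfsg.charDegree χ = n := by
  simp [Cfsg.charDegree, h]

theorem charDegree_dvd_card [Fintype G] (χ : Cfsg.IrrCharacter G) :
    Cfsg.charDegree (χ : G → ℂ) ∣ Nat.card G := by
  obtain ⟨n, ρ, hρ, hρc⟩ := χ.2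
  rw [← hρc, charDegree_character]
  exact CfsgLib.Characters.finrank_dvd_card ρ

/-- A character induced from a Sylow subgroup has prime power codegree. -/
theorem exists_card_eq_pow_mul_of_indFun [Fintype G] {p : ℕ} [hp : Fact p.Prime]
    (χ : Cfsg.IrrCharacter G) (P : Sylow p G) {θ : ↥(P : Subgroup G) → ℂ}
    (hθ : Cfsg.IsCharacter ↥(P : Subgroup G) θ)
    (hχ : (χ : G → ℂ) = Cfsg.indFun (P : Subgroup G) θ) :
    ∃ k : ℕ, Nat.card G = p ^ k * Cfsg.charDegree (χ : G → ℂ) := by
  classical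
  obtain ⟨l, hl⟩ := CfsgLib.Characters.exists_list_irr hθ
  letI := Fintype.ofFinite (P : Subgroup G)
  cases l with
  | nil =>
    exfalso
    rw [List.map_nil, List.sum_nil] at hl
    rw [hl, CfsgLib.Characters.indFun_zero] at hχ
    exact CfsgLib.Characters.irr_ne_zero χ.2 hχ
  | cons a l =>
    rw [List.map_cons, List.sum_cons] at hl
    set B := (l.map Subtype.val).sum with hB
    have hBc : Cfsg.IsCharacter (P : Subgroup G) B := by
      rw [hB]
      clear_value B
      clear hl hB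
      induction l with
      | nil => exact CfsgLib.Characters.isCharacter_zero
      | cons b l ih =>
        rw [List.map_cons, List.sum_cons]
        exact CfsgLib.Characters.isCharacter_add (CfsgLib.Characters.isCharacter_of_isIrr b.2) ih
    have hirr : Cfsg.IsIrrCharacter G
        (Cfsg.indFun (P : Subgroup G) (a : ↥(P : Subgroup G) → ℂ) + Cfsg.indFun (P : Subgroup G) B) := by
      rw [← CfsgLib.Characters.indFun_add, ← hl, ← hχ]
      exact χ.2
    have hidx : ((P : Subgroup G).index : ℂ) ≠ 0 :=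
      Nat.cast_ne_zero.2 Subgroup.index_ne_zero_of_finite
    rcases eq_zero_or_eq_zero_of_add_irr
      (CfsgLib.Characters.isCharacter_indFun _ (CfsgLib.Characters.isCharacter_of_isIrr a.2))
      (CfsgLib.Characters.isCharacter_indFun _ hBc) hirr with h | h
    · rw [CfsgLib.Characters.indFun_one] at h
      exact absurd ((mul_eq_zero.1 h).resolve_left hidx) (CfsgLib.Characters.irr_one_ne_zero a.2)
    · rw [CfsgLib.Characters.indFun_one] at h
      have hB1 := (mul_eq_zero.1 h).resolve_left hidx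
      obtain ⟨-, ha⟩ := exists_degree a
      have hdeg : Cfsg.charDegree (χ : G → ℂ) =
          (P : Subgroup G).index * Cfsg.charDegree (a : ↥(P : Subgroup G) → ℂ) := by
        refine charDegree_eq_of_apply_one _ _ ?_
        rw [hχ, CfsgLib.Characters.indFun_one, hl, Pi.add_apply, hB1, add_zero, ha, Nat.cast_mul]
      obtain ⟨n, hn⟩ := IsPGroup.iff_card.1 P.2
      obtain ⟨j, hj, hj'⟩ := (Nat.dvd_prime_pow hp.out).1 (hn ▸ charDegree_dvd_card a)
      refine ⟨n - j, ?_⟩
      rw [hdeg, hj', ← Subgroup.index_mul_card (P : Subgroup G), hn,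
        ← pow_sub_mul_pow p hj]
      ring

/-- A character of prime power codegree is induced from a Sylow subgroup. -/
theorem exists_indFun_of_card_eq [Fintype G] {p : ℕ} [hp : Fact p.Prime] (P : Sylow p G)
    (χ : Cfsg.IrrCharacter G) {k : ℕ} (hk : Nat.card G = p ^ k * Cfsg.charDegree (χ : G → ℂ)) :
    ∃ θ : Cfsg.IrrCharacter (P : Subgroup G),
      (χ : G → ℂ) = Cfsg.indFun (P : Subgroup G) (θ : ↥(P : Subgroup G) → ℂ) := by
  classical
  letI := Fintype.ofFinite (P : Subgroup G)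
  obtain ⟨n, hn⟩ := IsPGroup.iff_card.1 P.2
  obtain ⟨hd0, hd⟩ := exists_degree χ
  set d := Cfsg.charDegree (χ : G → ℂ) with hddef
  set i := (P : Subgroup G).index with hi
  have hcop : Nat.Coprime i (p ^ k) :=
    Nat.Coprime.pow_right k ((hp.out.coprime_iff_not_dvd.2 P.not_dvd_index).symm)
  have hprod : i * p ^ n = p ^ k * d := by rw [← hk, hi, ← hn, Subgroup.index_mul_card]
  obtain ⟨e, he⟩ : i ∣ d := hcop.dvd_of_dvd_mul_left ⟨p ^ n, hprod.symm⟩
  have hen : e ∣ p ^ n := by
    refine ⟨p ^ k, ?_⟩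
    have hi0 : i ≠ 0 := Subgroup.index_ne_zero_of_finite
    apply Nat.eq_of_mul_eq_mul_left (Nat.pos_of_ne_zero hi0)
    rw [hprod, he]; ring
  obtain ⟨a, -, rfl⟩ := (Nat.dvd_prime_pow hp.out).1 hen
  obtain ⟨m, hm⟩ := CfsgLib.Characters.exists_nat_coeff
    (CfsgLib.Characters.isCharacter_restrict (P : Subgroup G)
      (CfsgLib.Characters.isCharacter_of_isIrr χ.2))
  have hsum : d = ∑ θ, m θ * Cfsg.charDegree ((θ : Cfsg.IrrCharacter (P : Subgroup G)) :
      ↥(P : Subgroup G) → ℂ) := by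
    have h1 := congrFun hm 1
    simp only [Finset.sum_apply, Pi.smul_apply, smul_eq_mul, OneMemClass.coe_one, hd,
      (exists_degree _).2] at h1
    exact_mod_cast h1
  -- a constituent of small degree
  obtain ⟨θ, hθm, hθd⟩ : ∃ θ, m θ ≠ 0 ∧
      Cfsg.charDegree ((θ : Cfsg.IrrCharacter (P : Subgroup G)) : ↥(P : Subgroup G) → ℂ) ≤ p ^ a := by
    by_contra hno
    push Not at hno
    have hall : p ^ (a + 1) ∣ d := by
      rw [hsum]
      refine Finset.dvd_sum fun θ _ => ?_
      by_cases h0 : m θ = 0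
      · simp [h0]
      obtain ⟨j, -, hj'⟩ := (Nat.dvd_prime_pow hp.out).1 (hn ▸ charDegree_dvd_card θ)
      have := hno θ h0
      rw [hj', Nat.pow_lt_pow_iff_right hp.out.one_lt] at this
      exact Dvd.dvd.mul_left (hj' ▸ pow_dvd_pow p this) _
    rw [he, pow_succ, mul_comm i] at hall
    exact P.not_dvd_index (Nat.dvd_of_mul_dvd_mul_left (pow_pos hp.out.pos a) hall)
  refine ⟨θ, ?_⟩
  set θ' : ↥(P : Subgroup G) → ℂ := (θ : ↥(P : Subgroup G) → ℂ) with hθ'
  obtain ⟨M, hM⟩ := CfsgLib.Characters.exists_nat_coeff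
    (CfsgLib.Characters.isCharacter_indFun (P : Subgroup G)
      (CfsgLib.Characters.isCharacter_of_isIrr θ.2))
  have hMχ : M χ = m θ := by
    have h1 := congrArg (fun f => Cfsg.classInner f (χ : G → ℂ)) hM
    simp only [CfsgLib.Characters.classInner_irr_coeff] at h1
    rw [CfsgLib.Characters.classInner_indFun _ _ (CfsgLib.Characters.isClassFunction_of_isIrr χ.2),
      CfsgLib.Characters.classInner_conj_symm, hm, CfsgLib.Characters.classInner_irr_coeff,
      Complex.conj_natCast, Nat.cast_inj] at h1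
    exact h1.symm
  have hMsum : i * Cfsg.charDegree θ' = ∑ ψ, M ψ * Cfsg.charDegree (ψ : G → ℂ) := by
    have h1 := congrFun hM 1
    simp only [CfsgLib.Characters.indFun_one, Finset.sum_apply, Pi.smul_apply, smul_eq_mul,
      (exists_degree _).2] at h1
    exact_mod_cast h1
  rw [← Finset.add_sum_erase _ _ (Finset.mem_univ χ), hMχ, ← hddef] at hMsum
  have hle : i * Cfsg.charDegree θ' ≤ d := by
    rw [he]; exact Nat.mul_le_mul_left i hθd
  have h1 : d ≤ m θ * d := Nat.le_mul_of_pos_left d (Nat.pos_of_ne_zero hθm)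
  have hrest : ∑ ψ ∈ Finset.univ.erase χ, M ψ * Cfsg.charDegree (ψ : G → ℂ) = 0 := by omega
  have hm1 : m θ = 1 := by
    have h2 : m θ * d ≤ 1 * d := by omega
    have := Nat.le_of_mul_le_mul_right h2 hd0
    omega
  rw [hM, ← Finset.add_sum_erase _ _ (Finset.mem_univ χ), hMχ, hm1, Nat.cast_one, one_smul]
  rw [Finset.sum_eq_zero, add_zero]
  intro ψ hψ
  have := (Finset.sum_eq_zero_iff.1 hrest) ψ hψ
  rcases mul_eq_zero.1 this with h | h
  · simp [h]
  · exact absurd h (exists_degree ψ).1.ne'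

end CfsgLib.Codegree
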