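import Cfsg.Prelude.Def_Blocks
import Cfsg.Agent.Characters.Orthogonality
import Mathlib.GroupTheory.FiniteAbelian.Duality
import Mathlib.GroupTheory.Abelianization.Defs
import Mathlib.GroupTheory.QuotientGroup.Basic
import Mathlib.RingTheory.RootsOfUnity.AlgebraicallyClosed

/-!
# Kernels, degrees and linear characters for codegree arguments
-/

set_option autoImplicit false
set_option linter.style.haveILetI false

namespace CfsgLib.Codegree

open Representation
open scoped ComplexConjugate

universe u v

section Kernel

variable {G : Type u} [Group G] [Finite G] {V : Type v} [AddCommGroup V] [Module ℂ V]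
  [FiniteDimensional ℂ V]

/-- An element fixes the character degree exactly when it acts trivially. -/
theorem char_eq_one_iff (ρ : Representation ℂ G V) (g : G) :
    ρ.character g = ρ.character 1 ↔ ρ g = 1 := by
  constructor
  · intro h
    obtain ⟨b, μ, hb⟩ := CfsgLib.Characters.exists_eigenbasis ρ g
    have htr : ρ.character g = ∑ i, μ i := by
      rw [Representation.character, LinearMap.trace_eq_matrix_trace ℂ b, Matrix.trace]
      refine Finset.sum_congr rfl fun i _ => ?_
      rw [Matrix.diag, LinearMap.toMatrix_apply, (hb i).1]; simp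
    rw [htr, Representation.char_one] at h
    have hnorm : ∀ i, ‖μ i‖ = 1 := fun i =>
      Complex.norm_eq_one_of_pow_eq_one (hb i).2 (orderOf_pos g).ne'
    have hre : ∑ i, (1 - (μ i).re) = 0 := by
      have := congrArg Complex.re h
      rw [Complex.re_sum, Complex.natCast_re] at this
      simp [Finset.sum_sub_distrib, this]
    have hone : ∀ i, μ i = 1 := by
      intro i
      have h1 := (Finset.sum_eq_zero_iff_of_nonneg (fun j _ => by
        have := Complex.re_le_norm (μ j)
        rw [hnorm j] at this
        linarith)).1 hre i (Finset.mem_univ _)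
      have h2 : (μ i).re = 1 := by linarith
      have h3 := Complex.sq_norm (μ i)
      rw [hnorm i, Complex.normSq_apply, h2] at h3
      exact Complex.ext (by simp [h2]) (by simp; nlinarith)
    refine b.ext fun i => ?_
    rw [(hb i).1, hone i, one_smul, Module.End.one_apply]
  · intro h
    simp [Representation.character, h]

theorem ker_setOf_eq (ρ : Representation ℂ G V) :
    {g : G | ρ.character g = ρ.character 1} = (MonoidHom.ker ρ : Set G) := by
  ext g
  exact char_eq_one_iff ρ g

theorem natCard_ker (ρ : Representation ℂ G V) :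
    Nat.card {g : G // ρ.character g = ρ.character 1} = Nat.card (MonoidHom.ker ρ) :=
  Nat.card_congr (Equiv.subtypeEquivRight fun g => char_eq_one_iff ρ g)

omit [Finite G] in
/-- The faithful representation of the quotient by the kernel. -/
noncomputable def kerRep (ρ : Representation ℂ G V) :
    Representation ℂ (G ⧸ MonoidHom.ker ρ) V :=
  QuotientGroup.lift (MonoidHom.ker ρ) ρ le_rfl

omit [Finite G] [FiniteDimensional ℂ V] in
theorem kerRep_mk (ρ : Representation ℂ G V) (g : G) :
    kerRep ρ (QuotientGroup.mk g) = ρ g := rfl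

omit [Finite G] [FiniteDimensional ℂ V] in
theorem kerRep_injective (ρ : Representation ℂ G V) : Function.Injective (kerRep ρ) := by
  intro x y
  refine QuotientGroup.induction_on x fun a => QuotientGroup.induction_on y fun b => ?_
  intro h
  rw [kerRep_mk, kerRep_mk] at h
  rw [QuotientGroup.eq, MonoidHom.mem_ker, map_mul, ← h, ← map_mul, inv_mul_cancel, map_one]

omit [Finite G] [FiniteDimensional ℂ V] in
theorem kerRep_irreducible (ρ : Representation ℂ G V) [ρ.IsIrreducible] :
    (kerRep ρ).IsIrreducible := by
  haveI := CfsgLib.Characters.nontrivial_of_isIrreducible ρ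
  refine CfsgLib.Characters.isIrreducible_of_forall _ fun U hU => ?_
  rcases IsSimpleOrder.eq_bot_or_eq_top
    (⟨U, fun g x hx => hU (QuotientGroup.mk g) x hx⟩ : Subrepresentation ρ) with h | h
  · exact Or.inl (congrArg Subrepresentation.toSubmodule h)
  · exact Or.inr (congrArg Subrepresentation.toSubmodule h)

theorem charDegree_character (ρ : Representation ℂ G V) :
    Cfsg.charDegree ρ.character = Module.finrank ℂ V := by
  simp [Cfsg.charDegree, Representation.char_one]

/-- The codegree expression in terms of a representation. -/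
theorem codeg_eq (ρ : Representation ℂ G V) :
    Nat.card G / (Nat.card {g : G // ρ.character g = ρ.character 1} *
        Cfsg.charDegree ρ.character) =
      Nat.card (G ⧸ MonoidHom.ker ρ) / Module.finrank ℂ V := by
  rw [natCard_ker, charDegree_character, ← Nat.div_div_eq_div_mul,
    Subgroup.card_eq_card_quotient_mul_card_subgroup (MonoidHom.ker ρ),
    Nat.mul_div_cancel _ Nat.card_pos]

end Kernel

section Linear

variable {G : Type u} [Group G]

/-- The one-dimensional representation of a linear character. -/
noncomputable def linearRep (φ : G →* ℂˣ) : Representation ℂ G (Fin 1 → ℂ) :=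
  (algebraMap ℂ (Module.End ℂ (Fin 1 → ℂ))).toMonoidHom.comp ((Units.coeHom ℂ).comp φ)

theorem linearRep_apply (φ : G →* ℂˣ) (g : G) (v : Fin 1 → ℂ) :
    linearRep φ g v = (φ g : ℂ) • v := rfl

theorem linearRep_irreducible (φ : G →* ℂˣ) : (linearRep φ).IsIrreducible :=
  CfsgLib.Characters.isIrreducible_of_finrank_eq_one _ (by simp)

theorem linearRep_character (φ : G →* ℂˣ) : (linearRep φ).character = fun g => (φ g : ℂ) := by
  funext g
  have : linearRep φ g = (φ g : ℂ) • (LinearMap.id : (Fin 1 → ℂ) →ₗ[ℂ] (Fin 1 → ℂ)) := rfl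
  rw [Representation.character, this, map_smul, LinearMap.trace_id]
  simp

/-- The irreducible character of a linear character. -/
noncomputable def linearIrr (φ : G →* ℂˣ) : Cfsg.IrrCharacter G :=
  ⟨fun g => (φ g : ℂ), 1, linearRep φ, linearRep_irreducible φ, linearRep_character φ⟩

theorem charDegree_linearIrr (φ : G →* ℂˣ) :
    Cfsg.charDegree (linearIrr φ : G → ℂ) = 1 := by
  simp [Cfsg.charDegree, linearIrr]

/-- A group that is not perfect has a linear character of prime order. -/
theorem exists_hom_prime_order [Finite G] (h : commutator G ≠ ⊤) :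
    ∃ (φ : G →* ℂˣ) (q : ℕ), q.Prime ∧ (MonoidHom.ker φ).index = q := by
  haveI : Finite (Abelianization G) := Quotient.finite _
  obtain ⟨a, -, ha⟩ := SetLike.exists_of_lt (lt_of_le_of_ne le_top h)
  have ha' : Abelianization.of a ≠ 1 := fun h0 => ha ((QuotientGroup.eq_one_iff a).1 h0)
  haveI : NeZero (Monoid.exponent (Abelianization G) : ℂ) :=
    ⟨Nat.cast_ne_zero.2 Monoid.exponent_ne_zero_of_finite⟩
  haveI : HasEnoughRootsOfUnity ℂ (Monoid.exponent (Abelianization G)) :=
    HasEnoughRootsOfUnity.of_card_le (by
      haveI : NeZero (Monoid.exponent (Abelianization G)) :=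
        ⟨Monoid.exponent_ne_zero_of_finite⟩
      rw [Complex.card_rootsOfUnity])
  obtain ⟨ψ, hψ⟩ :=
    CommGroup.exists_apply_ne_one_of_hasEnoughRootsOfUnity (Abelianization G) ℂ ha'
  set χ : G →* ℂˣ := ψ.comp Abelianization.of with hχ
  have hne : Nat.card χ.range ≠ 1 := by
    intro h1
    have := Subgroup.card_eq_one.1 h1
    have ha2 : χ a ∈ χ.range := ⟨a, rfl⟩
    rw [this, Subgroup.mem_bot] at ha2
    exact hψ ha2
  haveI : Finite χ.range := Finite.of_surjective χ.rangeRestrict χ.rangeRestrict_surjective
  obtain ⟨q, hq, hqn⟩ := Nat.exists_prime_and_dvd hne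
  haveI : IsCyclic χ.range := subgroup_units_cyclic χ.range
  obtain ⟨z, hz⟩ := IsCyclic.exists_generator (α := χ.range)
  set m := Nat.card χ.range / q with hm
  have hord : orderOf z = Nat.card χ.range := orderOf_eq_card_of_forall_mem_zpowers hz
  refine ⟨(powMonoidHom m).comp χ, q, hq, ?_⟩
  rw [Subgroup.index_ker]
  have hr : ((powMonoidHom m).comp χ).range = Subgroup.zpowers ((z : ℂˣ) ^ m) := by
    ext y
    constructor
    · rintro ⟨g, rfl⟩
      obtain ⟨k, hk⟩ := hz ⟨χ g, ⟨g, rfl⟩⟩
      refine ⟨k, ?_⟩
      have hk' : (z : ℂˣ) ^ k = χ g := by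
        rw [← SubgroupClass.coe_zpow]; exact congrArg Subtype.val hk
      simp [← hk', ← zpow_natCast, ← zpow_mul, mul_comm]
    · rintro ⟨k, rfl⟩
      obtain ⟨g, hg⟩ := z.2
      refine ⟨g ^ k, ?_⟩
      simp [map_zpow, hg]
  rw [hr, Nat.card_zpowers, ← SubgroupClass.coe_pow, Subgroup.orderOf_coe,
    orderOf_pow_of_dvd (Nat.div_ne_zero_iff_of_dvd hqn |>.2 ⟨Nat.card_pos.ne', hq.ne_zero⟩)
      (by rw [hord]; exact Nat.div_dvd_of_dvd hqn), hord, Nat.div_div_self hqn Nat.card_pos.ne']

end Linear

end CfsgLib.Codegree
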