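import Cfsg.Agent.Characters.RepBasic
import Mathlib.LinearAlgebra.Dimension.OrzechProperty
import Mathlib.GroupTheory.SchurZassenhaus
import Mathlib.GroupTheory.Sylow
import Mathlib.GroupTheory.SpecificGroups.Cyclic

/-!
# Faithful irreducible representations of prime codegree

If a finite group `G` has a faithful irreducible representation of dimension `d` with
`|G| = p * d`, `p` prime, then `G` is the semidirect product of a normal subgroup of order `p`
by a subgroup of order `d` acting without fixed points.
-/

set_option autoImplicit false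
set_option linter.style.haveILetI false

namespace CfsgLib.Codegree

open Representation

variable {G : Type*} [Group G] [Finite G] {V : Type*} [AddCommGroup V] [Module ℂ V]
  [FiniteDimensional ℂ V]

/-- The vectors `ρ g v` span the space of an irreducible representation. -/
theorem span_orbit_eq_top (ρ : Representation ℂ G V) [ρ.IsIrreducible] {v : V} (hv : v ≠ 0) :
    Submodule.span ℂ (Set.range fun g => ρ g v) = ⊤ := by
  set U := Submodule.span ℂ (Set.range fun g => ρ g v) with hU
  have hinv : ∀ g x, x ∈ U → ρ g x ∈ U := by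
    intro g x hx
    refine Submodule.span_induction ?_ ?_ ?_ ?_ hx
    · rintro _ ⟨h, rfl⟩
      exact Submodule.subset_span ⟨g * h, by simp [map_mul]⟩
    · simp
    · intro a b _ _ ha hb
      rw [map_add]; exact U.add_mem ha hb
    · intro c a _ ha
      rw [map_smul]; exact U.smul_mem c ha
  rcases IsSimpleOrder.eq_bot_or_eq_top (⟨U, fun g x hx => hinv g x hx⟩ : Subrepresentation ρ)
    with h | h
  · exfalso
    have hUb : U = ⊥ := congrArg Subrepresentation.toSubmodule h
    have : v ∈ U := Submodule.subset_span ⟨1, by simp⟩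
    rw [hUb] at this
    exact hv (by simpa using this)
  · exact congrArg Subrepresentation.toSubmodule h

/-- The dimension of a faithful irreducible representation is less than its prime codegree. -/
theorem finrank_lt_of_card_eq (ρ : Representation ℂ G V) [ρ.IsIrreducible] {p : ℕ} (hp : p.Prime)
    (hcard : Nat.card G = p * Module.finrank ℂ V) : Module.finrank ℂ V < p := by
  classical
  letI := Fintype.ofFinite G
  set d := Module.finrank ℂ V with hd
  have hd0 : 0 < d := CfsgLib.Characters.finrank_pos_of_isIrreducible ρ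
  haveI : Invertible (Nat.card G : ℂ) := invertibleOfNonzero (by exact_mod_cast Nat.card_pos.ne')
  have ho := Representation.char_orthonormal ρ ρ
  rw [if_pos ⟨Representation.Equiv.refl ρ⟩] at ho
  have hsum : (∑ g : G, ‖ρ.character g‖ ^ 2 : ℝ) = Nat.card G := by
    have h1 : (∑ g : G, ρ.character g * ρ.character g⁻¹ : ℂ) = Nat.card G := by
      have hne : (Nat.card G : ℂ) ≠ 0 := by exact_mod_cast Nat.card_pos.ne'
      have := congrArg (fun z => (Nat.card G : ℂ) * z) ho
      simpa [← mul_assoc, hne] using this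
    have h2 : ((∑ g : G, ‖ρ.character g‖ ^ 2 : ℝ) : ℂ) = Nat.card G := by
      rw [← h1]
      push_cast
      refine Finset.sum_congr rfl fun g _ => ?_
      rw [CfsgLib.Characters.char_inv, Complex.mul_conj, Complex.normSq_eq_norm_sq]
      push_cast
      ring
    exact_mod_cast h2
  have h1 : ‖ρ.character 1‖ ^ 2 = (d : ℝ) ^ 2 := by
    rw [Representation.char_one]; simp [hd]
  by_contra hlt
  push Not at hlt
  have hle : (d : ℝ) ^ 2 ≤ (p * d : ℕ) := by
    rw [← hcard, ← hsum, ← h1]
    exact Finset.single_le_sum (f := fun g => ‖ρ.character g‖ ^ 2) (fun g _ => by positivity)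
      (Finset.mem_univ 1)
  have hle' : d ^ 2 ≤ p * d := by exact_mod_cast hle
  have hdp : d = p := le_antisymm (Nat.le_of_mul_le_mul_right (by rw [← sq]; exact hle') hd0) hlt
  have hzero : ∀ g : G, g ≠ 1 → ρ.character g = 0 := by
    intro g hg
    have hrest : ∑ g ∈ (Finset.univ.erase (1 : G)), ‖ρ.character g‖ ^ 2 = 0 := by
      have := Finset.add_sum_erase Finset.univ (fun g => ‖ρ.character g‖ ^ 2) (Finset.mem_univ 1)
      rw [hsum, h1, hcard, hdp] at this
      push_cast at this ⊢
      linarith
    have := (Finset.sum_eq_zero_iff_of_nonneg (fun g _ => by positivity)).1 hrest g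
      (by simp [hg])
    simpa using this
  have hinv := Representation.card_inv_mul_sum_char_eq_finrank ρ
  rw [Finset.sum_eq_single 1 (fun g _ hg => hzero g hg) (by simp), Representation.char_one,
    ← hd, hcard, hdp] at hinv
  have hpC : (p : ℂ) ≠ 0 := by exact_mod_cast hp.ne_zero
  have : (1 : ℂ) = (p * Module.finrank ℂ (invariants ρ) : ℕ) := by
    push_cast at hinv ⊢
    rw [← hinv]
    field_simp
  have h2 : (1 : ℕ) = p * Module.finrank ℂ (invariants ρ) := by exact_mod_cast this
  exact hp.one_lt.ne' (Nat.eq_one_of_mul_eq_one_right h2.symm)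

/-- Structure of a group with a faithful irreducible representation of prime codegree. -/
theorem exists_frobenius_data (ρ : Representation ℂ G V) [ρ.IsIrreducible]
    (hinj : Function.Injective ρ) {p : ℕ} (hp : p.Prime)
    (hcard : Nat.card G = p * Module.finrank ℂ V) :
    ∃ P B : Subgroup G, P.Normal ∧ Nat.card P = p ∧ P.IsComplement' B ∧
      Nat.card B = Module.finrank ℂ V ∧
      ∀ b ∈ B, ∀ x ∈ P, Commute b x → b = 1 ∨ x = 1 := by
  classical
  haveI := Fact.mk hp
  set d := Module.finrank ℂ V with hd
  have hd0 : 0 < d := CfsgLib.Characters.finrank_pos_of_isIrreducible ρ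
  have hdp : d < p := finrank_lt_of_card_eq ρ hp hcard
  have hcop : Nat.Coprime p d := hp.coprime_iff_not_dvd.2 (Nat.not_dvd_of_pos_of_lt hd0 hdp)
  obtain ⟨S⟩ : Nonempty (Sylow p G) := inferInstance
  have hS : Nat.card (S : Subgroup G) = p := by
    rw [S.card_eq_multiplicity, hcard, Nat.factorization_mul hp.ne_zero hd0.ne']
    simp [hp.factorization_self, Nat.factorization_eq_zero_of_not_dvd
      (Nat.not_dvd_of_pos_of_lt hd0 hdp)]
  have hidx : (S : Subgroup G).index = d := by
    have := (S : Subgroup G).card_mul_index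
    rw [hS, hcard] at this
    exact Nat.eq_of_mul_eq_mul_left hp.pos this
  haveI : Subsingleton (Sylow p G) := by
    have h1 := card_sylow_modEq_one p G
    have h2 : Nat.card (Sylow p G) ≤ d := hidx ▸
      Nat.le_of_dvd (by rw [hidx]; exact hd0) S.card_dvd_index
    have h3 : Nat.card (Sylow p G) = 1 :=
      Nat.ModEq.eq_of_lt_of_lt h1 (h2.trans_lt hdp) hp.one_lt
    exact (Nat.card_eq_one_iff_unique.1 h3).1
  haveI hnorm : (S : Subgroup G).Normal := S.normal_of_subsingleton
  obtain ⟨B, hB⟩ := Subgroup.exists_right_complement'_of_coprime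
    (N := (S : Subgroup G)) (by rw [hS, hidx]; exact hcop)
  have hBc : Nat.card B = d := by
    rw [← hidx]
    exact hB.symm.index_eq_card.symm
  refine ⟨S, B, hnorm, hS, hB, hBc, ?_⟩
  intro b hb x hx hbx
  by_contra hne
  push Not at hne
  obtain ⟨hb1, hx1⟩ := hne
  -- a simultaneous eigenvector
  obtain ⟨v, c, μ, hv, hvb, hvx⟩ : ∃ (v : V) (c μ : ℂ), v ≠ 0 ∧ ρ b v = c • v ∧ ρ x v = μ • v := by
    haveI := CfsgLib.Characters.nontrivial_of_isIrreducible ρ
    obtain ⟨μ, hμ⟩ := Module.End.exists_eigenvalue (ρ x : Module.End ℂ V)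
    set W := Module.End.eigenspace (ρ x : Module.End ℂ V) μ with hW
    have hWb : ∀ w ∈ W, ρ b w ∈ W := by
      intro w hw
      rw [hW, Module.End.mem_eigenspace_iff] at hw ⊢
      rw [← Module.End.mul_apply, ← map_mul, ← hbx.eq, map_mul, Module.End.mul_apply, hw, map_smul]
    haveI : Nontrivial W := Submodule.nontrivial_iff_ne_bot.2 hμ
    obtain ⟨c, hc⟩ := Module.End.exists_eigenvalue
      ((ρ b : Module.End ℂ V).restrict hWb : Module.End ℂ W)
    obtain ⟨w, hw⟩ := hc.exists_hasEigenvector
    refine ⟨(w : V), c, μ, fun h => hw.2 (Subtype.ext h), ?_, ?_⟩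
    · exact congrArg Subtype.val hw.apply_eq_smul
    · exact Module.End.mem_eigenspace_iff.1 w.2
  have hgen : (S : Subgroup G) ≤ Subgroup.zpowers x := by
    have hle : Subgroup.zpowers x ≤ (S : Subgroup G) := Subgroup.zpowers_le.2 hx
    have hox : orderOf x = p := orderOf_eq_prime (by
      have h := orderOf_dvd_natCard (⟨x, hx⟩ : (S : Subgroup G))
      rw [hS, Subgroup.orderOf_mk] at h
      exact orderOf_dvd_iff_pow_eq_one.1 h) hx1
    exact (Subgroup.eq_of_le_of_card_ge hle (by rw [Nat.card_zpowers, hox, hS])).ge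
  have hline : ∀ y ∈ (S : Subgroup G), ∃ e : ℂ, ρ y v = e • v := by
    intro y hy
    obtain ⟨n, rfl⟩ := mem_powers_iff_mem_zpowers.2 (hgen hy)
    refine ⟨μ ^ n, ?_⟩
    show ρ (x ^ n) v = _
    clear hy
    induction n with
    | zero => simp
    | succ n ih =>
      rw [pow_succ', map_mul, Module.End.mul_apply, ih, map_smul, hvx, smul_smul, ← pow_succ]
  have hspan : ⊤ ≤ Submodule.span ℂ (Set.range fun a : B => ρ (a : G) v) := by
    rw [← span_orbit_eq_top ρ hv, Submodule.span_le]
    rintro _ ⟨g, rfl⟩
    obtain ⟨⟨a, y⟩, hg⟩ := hB.symm.2 g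
    obtain ⟨e, he⟩ := hline (y : G) y.2
    simp only [SetLike.mem_coe]
    rw [← hg]
    show ρ ((a : G) * (y : G)) v ∈ _
    rw [map_mul, Module.End.mul_apply, he, map_smul]
    exact Submodule.smul_mem _ _ (Submodule.subset_span ⟨a, rfl⟩)
  letI := Fintype.ofFinite B
  have hli : LinearIndependent ℂ (fun a : B => ρ (a : G) v) :=
    linearIndependent_of_top_le_span_of_card_eq_finrank hspan
      (by rw [Fintype.card_eq_nat_card, hBc])
  have hne : (⟨b, hb⟩ : B) ≠ 1 := fun h => hb1 (congrArg Subtype.val h)
  have := hli.notMem_span_image (s := {(1 : B)}) (x := ⟨b, hb⟩) (by simpa using hne)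
  refine this ?_
  simp only [Set.image_singleton, OneMemClass.coe_one, map_one, Module.End.one_apply, hvb]
  exact Submodule.smul_mem _ _ (Submodule.mem_span_singleton_self v)

end CfsgLib.Codegree
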